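import Groth.Agent.EGA73.IntegralNormal
import Groth.Agent.EGA73.CurveDim
import Groth.Agent.WC97.Dim
import Groth.Prelude.Def_ega3
import Groth.Prelude.Def_Pi1
import Mathlib.AlgebraicGeometry.Morphisms.Proper
import Mathlib.AlgebraicGeometry.ZariskisMainTheorem

/-!
`f_* O = O` and function fields, for proper dominant morphisms of integral schemes.
-/

set_option autoImplicit false
set_option backward.isDefEq.respectTransparency.types false
universe u

open CategoryTheory AlgebraicGeometry TopologicalSpace Opposite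

namespace Groth.Agent.CohFF96

/-- An element of the function field regular on the affine opens inside `W` is regular on `W`. -/
theorem mem_range_of_affines {Y : Scheme.{u}} [IsIntegral Y] (W : Y.Opens) [Nonempty W]
    (z : Y.functionField)
    (h : ∀ V : Y.Opens, IsAffineOpen V → V ≤ W → ∀ [Nonempty V],
      z ∈ (Y.germToFunctionField V).hom.range) :
    z ∈ (Y.germToFunctionField W).hom.range := by
  let ι := {V : Y.affineOpens // V.1 ≤ W ∧ Nonempty V.1}
  have hcV : ∀ V : ι, ∃ c : Γ(Y, V.1.1),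
      (haveI := V.2.2; (Y.germToFunctionField V.1.1).hom c = z) := by
    intro V
    have := V.2.2
    obtain ⟨c, hc⟩ := h V.1.1 V.1.2 V.2.1
    exact ⟨c, hc⟩
  choose c hc using hcV
  obtain ⟨s, hs, -⟩ := TopCat.Sheaf.existsUnique_gluing' Y.sheaf (fun V : ι => V.1.1) W
    (fun V => homOfLE V.2.1) (fun y hy => by
      obtain ⟨V, hV, hyV, hVW⟩ := exists_isAffineOpen_mem_and_subset (X := Y) (U := W) hy
      exact Opens.mem_iSup.mpr ⟨⟨⟨V, hV⟩, hVW, ⟨⟨y, hyV⟩⟩⟩, hyV⟩)
    c (fun V V' => by
      have := V.2.2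
      have := V'.2.2
      by_cases hne : Nonempty (V.1.1 ⊓ V'.1.1 : Y.Opens)
      · have := hne
        apply Y.germToFunctionField_injective (V.1.1 ⊓ V'.1.1)
        refine (Y.presheaf.germ_res_apply _ (genericPoint Y) _ _).trans
          (((hc V).trans (hc V').symm).trans (Y.presheaf.germ_res_apply _ (genericPoint Y) _ _).symm)
      · refine TopCat.Presheaf.section_ext Y.sheaf _ _ _ fun y hy => ?_
        exact absurd ⟨⟨y, hy⟩⟩ hne)
  obtain ⟨w⟩ := (inferInstance : Nonempty W)
  obtain ⟨V, hV, hwV, hVW⟩ := exists_isAffineOpen_mem_and_subset (X := Y) (U := W) w.2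
  let i₀ : ι := ⟨⟨V, hV⟩, hVW, ⟨⟨w.1, hwV⟩⟩⟩
  have := i₀.2.2
  refine ⟨s, ?_⟩
  refine Eq.trans ?_ (hc i₀)
  rw [← hs i₀]
  exact (Y.presheaf.germ_res_apply (homOfLE i₀.2.1) (genericPoint Y) _ s).symm

/-- On a normal scheme, an element of the function field integral over `Γ(W)` is regular on `W`. -/
theorem mem_range_of_isIntegralElem {Y : Scheme.{u}} [IsIntegral Y] (hY : Pi1.IsNormalScheme Y)
    (W : Y.Opens) [Nonempty W] (z : Y.functionField)
    (hz : (Y.germToFunctionField W).hom.IsIntegralElem z) :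
    z ∈ (Y.germToFunctionField W).hom.range := by
  obtain ⟨p, hp, hpz⟩ := hz
  refine mem_range_of_affines W z fun V hV hVW _ => ?_
  have := EGA73.isIntegrallyClosed_sections hY hV
  have := functionField_isFractionRing_of_isAffineOpen Y V hV
  refine IsIntegrallyClosed.isIntegral_iff.mp
    ⟨p.map (Y.presheaf.map (homOfLE hVW).op).hom, hp.map _, ?_⟩
  rw [Polynomial.eval₂_map]
  refine Eq.trans ?_ hpz
  congr 1
  ext a
  exact Y.presheaf.germ_res_apply (homOfLE hVW) (genericPoint Y) _ a

variable {X Y : Scheme.{u}} [IsIntegral X] [IsIntegral Y] (f : X ⟶ Y)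
  (h : f.base (genericPoint ↥X) ⤳ genericPoint ↥Y)

/-- The map of function fields. -/
noncomputable abbrev φ : Y.functionField →+* X.functionField :=
  CohIII.stalkToFunctionField f (genericPoint ↥Y) h

omit [IsIntegral Y] in
theorem nonempty_preimage [Surjective f] (U : Y.Opens) [Nonempty U] :
    Nonempty (f ⁻¹ᵁ U : X.Opens) := by
  obtain ⟨u⟩ := (inferInstance : Nonempty U)
  obtain ⟨x, hx⟩ := f.surjective u.1
  exact ⟨⟨x, by show f x ∈ U; rw [hx]; exact u.2⟩⟩

theorem φ_germ (U : Y.Opens) [Nonempty U] [Nonempty (f ⁻¹ᵁ U : X.Opens)] (s : Γ(Y, U)) :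
    φ f h (Y.germToFunctionField U s) = X.germToFunctionField (f ⁻¹ᵁ U) (f.app U s) := by
  show (f.stalkMap (genericPoint X)) ((Y.presheaf.stalkSpecializes h) (Y.presheaf.germ U _ _ s)) = _
  rw [TopCat.Presheaf.germ_stalkSpecializes_apply, Scheme.Hom.germ_stalkMap_apply]

theorem φ_germ_comp (U : Y.Opens) [Nonempty U] [Nonempty (f ⁻¹ᵁ U : X.Opens)] :
    (φ f h).comp (Y.germToFunctionField U).hom =
      (X.germToFunctionField (f ⁻¹ᵁ U)).hom.comp (f.app U).hom :=
  RingHom.ext (φ_germ f h U)

variable [UniversallyClosed f] [Surjective f]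

omit [IsIntegral X] [IsIntegral Y] [Surjective f] in
theorem isIntegral_app (U : Y.Opens) (hU : IsAffineOpen U) : (f.app U).hom.IsIntegral := by
  have : IsAffine (U : Scheme.{u}) := hU
  have : UniversallyClosed (f ∣_ U) := IsZariskiLocalAtTarget.restrict ‹UniversallyClosed f› U
  have h := isIntegral_appTop_of_universallyClosed (f ∣_ U)
  have e : U.ι ''ᵁ ⊤ = U := Scheme.Opens.ι_image_top U
  rw [morphismRestrict_appTop] at h
  have h1 : (f.app (U.ι ''ᵁ ⊤)).hom.IsIntegral := fun x => by
    obtain ⟨p, hp, hpx⟩ := h ((X.presheaf.map (eqToHom (image_morphismRestrict_preimage f U ⊤)).op).hom x)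
    refine ⟨p, hp, ?_⟩
    erw [CommRingCat.hom_comp, ← Polynomial.hom_eval₂] at hpx
    exact ((ConcreteCategory.bijective_of_isIso
      (X.presheaf.map (eqToHom (image_morphismRestrict_preimage f U ⊤)).op)).1 (hpx.trans (map_zero _).symm))
  rwa [e] at h1

/-- `f_* O_X = O_Y` when `K(Y)` is integrally closed in `K(X)`, `Y` normal, `f` proper. -/
theorem isIso_app_of_closed (hY : Pi1.IsNormalScheme Y)
    (hcl : ∀ x : X.functionField, (φ f h).IsIntegralElem x → x ∈ (φ f h).range) (U : Y.Opens) :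
    IsIso (f.app U) := by
  rcases isEmpty_or_nonempty U with hU | hU
  · have hUe : U = ⊥ := Opens.ext (Set.isEmpty_coe_sort.mp hU)
    subst hUe
    have hX : f ⁻¹ᵁ (⊥ : Y.Opens) = ⊥ := rfl
    have : Subsingleton Γ(X, f ⁻¹ᵁ (⊥ : Y.Opens)) := by rw [hX]; infer_instance
    rw [ConcreteCategory.isIso_iff_bijective]
    exact ⟨fun a b _ => Subsingleton.elim a b, fun b => ⟨0, Subsingleton.elim _ _⟩⟩
  have := nonempty_preimage f U
  rw [ConcreteCategory.isIso_iff_bijective]
  refine ⟨fun a b hab => ?_, fun s => ?_⟩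
  · apply Y.germToFunctionField_injective U
    apply (φ f h).injective
    rw [φ_germ f h, φ_germ f h, hab]
  · obtain ⟨c, hc⟩ : X.germToFunctionField (f ⁻¹ᵁ U) s ∈ (φ f h).range := by
      refine hcl _ ?_
      obtain ⟨u⟩ := hU
      obtain ⟨V, hV, huV, hVU⟩ := exists_isAffineOpen_mem_and_subset (X := Y) (U := U) u.2
      have : Nonempty V := ⟨⟨u.1, huV⟩⟩
      have := nonempty_preimage f V
      obtain ⟨p, hp, hps⟩ := isIntegral_app f V hV
        (X.presheaf.map (homOfLE (f.preimage_mono hVU)).op s)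
      refine ⟨p.map (Y.germToFunctionField V).hom, hp.map _, ?_⟩
      rw [Polynomial.eval₂_map, φ_germ_comp f h V,
        ← show X.germToFunctionField (f ⁻¹ᵁ V)
            (X.presheaf.map (homOfLE (f.preimage_mono hVU)).op s) = X.germToFunctionField (f ⁻¹ᵁ U) s
          from X.presheaf.germ_res_apply _ _ _ s, ← Polynomial.hom_eval₂, hps, map_zero]
    obtain ⟨a, ha⟩ : c ∈ (Y.germToFunctionField U).hom.range := by
      refine mem_range_of_affines U c fun V hV hVU _ => ?_
      have := nonempty_preimage f V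
      obtain ⟨p, hp, hps⟩ := isIntegral_app f V hV
        (X.presheaf.map (homOfLE (f.preimage_mono hVU)).op s)
      refine mem_range_of_isIntegralElem hY V c ⟨p, hp, (φ f h).injective ?_⟩
      rw [Polynomial.hom_eval₂, φ_germ_comp f h V, hc,
        ← show X.germToFunctionField (f ⁻¹ᵁ V)
            (X.presheaf.map (homOfLE (f.preimage_mono hVU)).op s) = X.germToFunctionField (f ⁻¹ᵁ U) s
          from X.presheaf.germ_res_apply _ _ _ s, ← Polynomial.hom_eval₂, hps, map_zero, map_zero]
    refine ⟨a, X.germToFunctionField_injective (f ⁻¹ᵁ U) ?_⟩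
    rw [← φ_germ f h, ha, hc]

omit [UniversallyClosed f] in
/-- `K(Y)` is integrally closed in `K(X)` when `f_* O_X = O_Y` and `X` is normal. -/
theorem closed_of_isIso_app (hX : Pi1.IsNormalScheme X) (hiso : ∀ U : Y.Opens, IsIso (f.app U))
    (x : X.functionField) (hx : (φ f h).IsIntegralElem x) : x ∈ (φ f h).range := by
  obtain ⟨U, hU, hη, -⟩ := exists_isAffineOpen_mem_and_subset (X := Y) (x := genericPoint Y) (U := ⊤) trivial
  have : Nonempty U := ⟨⟨_, hη⟩⟩
  have := nonempty_preimage f U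
  have := functionField_isFractionRing_of_isAffineOpen Y U hU
  letI : Algebra Γ(Y, U) Y.functionField := (Y.germToFunctionField U).hom.toAlgebra
  letI : Algebra Y.functionField X.functionField := (φ f h).toAlgebra
  letI : Algebra Γ(Y, U) X.functionField := ((φ f h).comp (Y.germToFunctionField U).hom).toAlgebra
  haveI : IsScalarTower Γ(Y, U) Y.functionField X.functionField :=
    IsScalarTower.of_algebraMap_eq' rfl
  have hx' : IsIntegral Y.functionField x := hx
  obtain ⟨m, hm⟩ := IsIntegral.exists_multiple_integral_of_isLocalization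
    (nonZeroDivisors Γ(Y, U)) x hx'
  obtain ⟨p, hp, hpm⟩ := hm
  obtain ⟨t, ht⟩ : (m : Γ(Y, U)) • x ∈ (X.germToFunctionField (f ⁻¹ᵁ U)).hom.range := by
    refine mem_range_of_isIntegralElem hX _ _ ⟨p.map (f.app U).hom, hp.map _, ?_⟩
    rw [Polynomial.eval₂_map, ← φ_germ_comp f h U]
    exact hpm
  obtain ⟨c, rfl⟩ := (ConcreteCategory.bijective_of_isIso (f.app U)).2 t
  have hm0 : Y.germToFunctionField U (m : Γ(Y, U)) ≠ 0 := fun e =>
    nonZeroDivisors.ne_zero m.2 (Y.germToFunctionField_injective U (e.trans (map_zero _).symm))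
  have hm0' : φ f h (Y.germToFunctionField U (m : Γ(Y, U))) ≠ 0 := fun e =>
    hm0 ((φ f h).injective (e.trans (map_zero _).symm))
  refine ⟨Y.germToFunctionField U c / Y.germToFunctionField U (m : Γ(Y, U)), ?_⟩
  rw [map_div₀, φ_germ f h U c, ht, div_eq_iff hm0', Algebra.smul_def, mul_comm]
  rfl

omit [UniversallyClosed f] in
/-- Bijective function fields when `f_* O_X = O_Y` and `dim X = dim Y`. -/
theorem bijective_of_isIso_app [IsProper f] {k : Type u} [Field k] (pX : X ⟶ Spec (.of k))
    (pY : Y ⟶ Spec (.of k)) [LocallyOfFiniteType pX] [LocallyOfFiniteType pY] (hp : f ≫ pY = pX)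
    (hdim : topologicalKrullDim ↥X = topologicalKrullDim ↥Y)
    (hiso : ∀ U : Y.Opens, IsIso (f.app U)) : Function.Bijective (φ f h) := by
  refine ⟨(φ f h).injective, ?_⟩
  have hfib : (f ⁻¹' {genericPoint ↥Y}) ⊆ {genericPoint ↥X} := by
    intro x (hx : f x = genericPoint Y)
    by_contra hne
    have h1 := WC97.pdim_le_of_map pX (fY := pY) hp x
    rw [hx, WC97.pdim_genericPoint pY, (WC97.dim_eq pY).2, WC97.pdim_eq pX] at h1
    have h2 : WC97.tdegN pY (genericPoint Y) = WC97.tdegN pX (genericPoint X) := by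
      have := hdim
      rw [(WC97.dim_eq pX).1, (WC97.dim_eq pY).1] at this
      exact_mod_cast this.symm
    have hlt : x < genericPoint X := by
      refine lt_of_le_not_ge ((genericPoint_spec X).specializes trivial) fun hge => hne ?_
      exact (Specializes.antisymm (hge : x ⤳ genericPoint X) ((genericPoint_spec X).specializes trivial)).eq
    have hhx : (Order.height x : WithBot ℕ∞) = (WC97.tdegN pX x : ℕ) :=
      (EGA73.dim_closure_eq_height x).symm.trans (WC97.topologicalKrullDim_closure pX x)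
    have hhg : (Order.height (genericPoint X) : WithBot ℕ∞) = (WC97.tdegN pX (genericPoint X) : ℕ) :=
      (EGA73.dim_closure_eq_height _).symm.trans (WC97.topologicalKrullDim_closure pX _)
    have hfin : Order.height x < ⊤ := by
      have : (Order.height x : WithBot ℕ∞) < ((⊤ : ℕ∞) : WithBot ℕ∞) := by
        rw [hhx]; exact WithBot.coe_lt_coe.2 (ENat.natCast_lt_top _)
      exact WithBot.coe_lt_coe.1 this
    have h3 : (Order.height x : WithBot ℕ∞) < Order.height (genericPoint X) :=
      WithBot.coe_lt_coe.2 (Order.height_strictMono hlt hfin)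
    rw [hhx, hhg] at h3
    have h4 : WC97.tdegN pX x < WC97.tdegN pX (genericPoint X) := by exact_mod_cast h3
    omega
  obtain ⟨V, hηV, hVf⟩ := exists_isFinite_morphismRestrict_of_finite_preimage_singleton f
    (genericPoint Y) ((Set.finite_singleton _).subset hfib)
  obtain ⟨U, hU, hη, hUV⟩ := exists_isAffineOpen_mem_and_subset (X := Y) (x := genericPoint Y) (U := V) hηV
  have : Nonempty U := ⟨⟨_, hη⟩⟩
  have := nonempty_preimage f U
  have hpre : IsAffineOpen (f ⁻¹ᵁ U) := by
    have hU' : IsAffineOpen (V.ι ⁻¹ᵁ U) :=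
      hU.preimage_of_isOpenImmersion V.ι (by rw [Scheme.Opens.opensRange_ι]; exact hUV)
    have h2 := (hU'.preimage (f ∣_ V)).image_of_isOpenImmersion (f ⁻¹ᵁ V).ι
    rw [image_morphismRestrict_preimage] at h2
    have e : V.ι ''ᵁ V.ι ⁻¹ᵁ U = U := by
      rw [Scheme.Hom.image_preimage_eq_opensRange_inf, Scheme.Opens.opensRange_ι, inf_eq_right.2 (show U ≤ V from hUV)]
    rwa [e] at h2
  have := functionField_isFractionRing_of_isAffineOpen X _ hpre
  intro z
  obtain ⟨a, b, hb, rfl⟩ := IsFractionRing.div_surjective (A := Γ(X, f ⁻¹ᵁ U)) z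
  have := hiso U
  obtain ⟨a', rfl⟩ := (ConcreteCategory.bijective_of_isIso (f.app U)).2 a
  obtain ⟨b', rfl⟩ := (ConcreteCategory.bijective_of_isIso (f.app U)).2 b
  refine ⟨Y.germToFunctionField U a' / Y.germToFunctionField U b', ?_⟩
  rw [map_div₀, φ_germ f h, φ_germ f h]
  rfl

end Groth.Agent.CohFF96
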